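import Cfsg.Agent.H2.Fi23C.Basic
import Cfsg.Agent.H1.Cores
import Mathlib.GroupTheory.PGroup

/-!
The quotients of the centralisers of `a` and `az` by `⟨a⟩`, `⟨az⟩` in S3233 carry the data of
S3232, the second one with swap.
-/

set_option autoImplicit false
set_option linter.unusedSectionVars false

namespace H38.Fi23C

open H2.Fi23C H39.Fi22C
open Subgroup (centralizer)

universe u v

variable {G : Type u} [Group G] [Finite G] {F : Type v} [Field F] [Fintype F] {z a b c : G}
  {J K₀ : Subgroup G} {π : ↥K₀ →* Cfsg.PSp 2 F} (S : Setup4 z a b c J K₀ π)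

theorem commute_of_mem {g x : G} (h : g ∈ centralizer ({x} : Set G)) : Commute g x :=
  Subgroup.mem_centralizer_singleton_iff.1 h

theorem mem_of_commute {g x : G} (h : Commute g x) : g ∈ centralizer ({x} : Set G) :=
  Subgroup.mem_centralizer_singleton_iff.2 h.eq

/-- The centre of the core. -/
def zs (z a b : G) : Subgroup G := Subgroup.closure {z, a, b}

include S

theorem z_K₀ {g : G} (hg : g ∈ K₀) : Commute z g := (commute_of_mem (S.le_cent hg)).symm

theorem J_cent {g : G} (hg : g ∈ J) : g ∈ centralizer ({z} : Set G) := S.le_cent (S.J_le hg)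

theorem J_zero {g : G} (hg : g ∈ J) :
    g ∈ centralizer ({z} : Set G) ⊓ centralizer ({a} : Set G) :=
  ⟨J_cent S hg, mem_of_commute (S.a_K₀ g (S.J_le hg)).symm⟩

theorem za : Commute z a := z_K₀ S (S.J_le S.a_mem)

theorem zs_comm {p g : G} (hp : p ∈ zs z a b) (hg : g ∈ K₀) : Commute p g := by
  have hle : zs z a b ≤ centralizer ({g} : Set G) := by
    refine (Subgroup.closure_le _).2 ?_
    rintro x (rfl | rfl | rfl)
    exacts [mem_of_commute (z_K₀ S hg), mem_of_commute (S.a_K₀ g hg),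
      mem_of_commute (S.b_K₀ g hg)]
  exact commute_of_mem (hle hp)

theorem zs_le : zs z a b ≤ J := by
  refine (Subgroup.closure_le _).2 ?_
  rintro x (rfl | rfl | rfl)
  exacts [S.z_mem, S.a_mem, S.b_mem]

theorem inZ_of_mem {p : G} (hp : p ∈ zs z a b) : InZ z a b p :=
  S.center p (zs_le S hp) fun q hq => zs_comm S hp (S.J_le hq)

theorem mem_of_inW {p : G} (hp : InW a b p) : p ∈ zs z a b := by
  have ha : a ∈ zs z a b := Subgroup.subset_closure (by simp)
  have hb : b ∈ zs z a b := Subgroup.subset_closure (by simp)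
  rcases hp with rfl | rfl | rfl | rfl
  exacts [one_mem _, ha, hb, mul_mem ha hb]

theorem mem_of_inZ {p : G} (hp : InZ z a b p) : p ∈ zs z a b := by
  rcases hp with hp | hp
  · exact mem_of_inW S hp
  · have hz : z ∈ zs z a b := Subgroup.subset_closure (by simp)
    have h1 : p * z * z⁻¹ ∈ zs z a b := mul_mem (mem_of_inW S hp) (inv_mem hz)
    rwa [mul_inv_cancel_right] at h1

theorem zs_conj {p g : G} (hp : p ∈ zs z a b) (hg : g ∈ centralizer ({z} : Set G)) :
    g * p * g⁻¹ ∈ zs z a b := by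
  have hle : zs z a b ≤ (zs z a b).comap (MulAut.conj g).toMonoidHom := by
    refine (Subgroup.closure_le _).2 ?_
    rintro x (rfl | rfl | rfl)
    · show g * x * g⁻¹ ∈ zs x a b
      rw [(commute_of_mem hg).eq, mul_inv_cancel_right]
      exact Subgroup.subset_closure (by simp)
    · exact mem_of_inW S (S.conj_W g hg _ (Or.inr (Or.inl rfl)))
    · exact mem_of_inW S (S.conj_W g hg _ (Or.inr (Or.inr (Or.inl rfl))))
  exact hle hp

theorem exists_noncomm : ∃ p ∈ J, ∃ q ∈ J, ¬ Commute p q := by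
  classical
  by_contra! h
  have hle : (J : Set G) ⊆ ↑({1, a, b, a * b, z, a * z, b * z, a * b * z} : Finset G) := by
    intro p hp
    rcases S.center p hp (fun q hq => h p hp q hq) with hW | hW
    · rcases hW with rfl | rfl | rfl | rfl <;> simp
    · have e : p = p * z * z := by rw [mul_assoc, S.sq, mul_one]
      rcases hW with hW | hW | hW | hW <;> rw [e, hW] <;> simp
  have h1 := Set.ncard_le_ncard hle (Finset.finite_toSet _)
  rw [Set.ncard_coe_finset, ← Nat.card_coe_set_eq] at h1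
  have h2 : Nat.card (J : Set G) = 2 ^ 11 := S.card_J
  have h3 : ({1, a, b, a * b, z, a * z, b * z, a * b * z} : Finset G).card ≤ 8 :=
    (Finset.card_insert_le _ _).trans <| Nat.succ_le_succ <| (Finset.card_insert_le _ _).trans <|
      Nat.succ_le_succ <| (Finset.card_insert_le _ _).trans <| Nat.succ_le_succ <|
      (Finset.card_insert_le _ _).trans <| Nat.succ_le_succ Finset.card_le_four
  omega

/-- The only power of `c` fixing `a` is trivial. -/
theorem c_pow_eq {i : ℕ} (h : Commute (c ^ i) a) : c ^ i = 1 := by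
  rw [pow_eq_pow_mod i S.c_pow] at h ⊢
  have hlt : i % 3 < 3 := Nat.mod_lt _ (by norm_num)
  interval_cases hi : i % 3
  · exact pow_zero c
  · refine absurd ?_ S.b_ne.2.2.1
    rw [← S.c_a, ← pow_one c, h.eq, mul_inv_cancel_right]
  · refine absurd ?_ S.b_ne.1
    have h1 : c * (c * a * c⁻¹) * c⁻¹ = a := by
      rw [show c * (c * a * c⁻¹) * c⁻¹ = c ^ 2 * a * (c ^ 2)⁻¹ by
        simp [pow_two, mul_assoc], h.eq, mul_inv_cancel_right]
    rw [S.c_a, S.c_b] at h1
    exact mul_eq_left.1 h1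

/-- An element acting trivially on the core modulo its centre lies in it. -/
theorem triv_le {g : G} (hgC : g ∈ centralizer ({z} : Set G))
    (hg : ∀ j ∈ J, g * j * g⁻¹ * j⁻¹ ∈ zs z a b) : g ∈ J := by
  classical
  haveI := S.simple_psp
  let T : Subgroup G :=
    { carrier := {g | g ∈ centralizer ({z} : Set G) ∧ ∀ j ∈ J, g * j * g⁻¹ * j⁻¹ ∈ zs z a b}
      one_mem' := ⟨one_mem _, fun j _ => by simp⟩
      mul_mem' := by
        rintro g h ⟨hg, hg'⟩ ⟨hh, hh'⟩
        refine ⟨mul_mem hg hh, fun j hj => ?_⟩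
        rw [show g * h * j * (g * h)⁻¹ * j⁻¹ =
          (g * (h * j * h⁻¹ * j⁻¹) * g⁻¹) * (g * j * g⁻¹ * j⁻¹) by group]
        exact mul_mem (zs_conj S (hh' j hj) hg) (hg' j hj)
      inv_mem' := by
        rintro g ⟨hg, hg'⟩
        refine ⟨inv_mem hg, fun j hj => ?_⟩
        have hj' : g⁻¹ * j * g ∈ J := by simpa using S.conj_mem g⁻¹ (inv_mem hg) j hj
        rw [show g⁻¹ * j * g⁻¹⁻¹ * j⁻¹ =
          (g * (g⁻¹ * j * g) * g⁻¹ * (g⁻¹ * j * g)⁻¹)⁻¹ by group]
        exact inv_mem (hg' _ hj') }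
  have hconj : ∀ {g x : G}, g ∈ T → x ∈ centralizer ({z} : Set G) → x * g * x⁻¹ ∈ T := by
    rintro g x ⟨hg, hg'⟩ hx
    refine ⟨mul_mem (mul_mem hx hg) (inv_mem hx), fun j hj => ?_⟩
    have hj' : x⁻¹ * j * x ∈ J := by simpa using S.conj_mem x⁻¹ (inv_mem hx) j hj
    rw [show x * g * x⁻¹ * j * (x * g * x⁻¹)⁻¹ * j⁻¹ =
      x * (g * (x⁻¹ * j * x) * g⁻¹ * (x⁻¹ * j * x)⁻¹) * x⁻¹ by group]
    exact zs_conj S (hg' _ hj') hx
  have hJT : ∀ {j : G}, j ∈ J → j ∈ T := fun {j} hj => ⟨J_cent S hj, fun q hq => by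
    rcases S.comm_mem j hj q hq with e | e <;> rw [e]
    · simp
    · have hz : z ∈ zs z a b := Subgroup.subset_closure (by simp)
      rw [show q * j * z * j⁻¹ * q⁻¹ = q * (j * z * j⁻¹) * q⁻¹ by group]
      exact zs_conj S (zs_conj S hz (J_cent S hj)) (J_cent S hq)⟩
  have hKn : (T.subgroupOf K₀).Normal := ⟨fun k hk x => hconj hk (S.le_cent x.2)⟩
  have hT0 : ∀ k : G, k ∈ T → k ∈ K₀ → k ∈ J := by
    rcases (IsSimpleGroup.eq_bot_or_eq_top_of_normal ((T.subgroupOf K₀).map π)
      (hKn.map π S.π_surj)) with h | h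
    · intro k hk hk0
      have : π ⟨k, hk0⟩ ∈ (T.subgroupOf K₀).map π := Subgroup.mem_map_of_mem π hk
      rw [h, Subgroup.mem_bot] at this
      exact (S.π_ker ⟨k, hk0⟩).1 this
    · exfalso
      obtain ⟨p, q, hpq⟩ : ∃ p q : Cfsg.PSp 2 F, p * q ≠ q * p := by
        by_contra! hc
        letI : CommGroup (Cfsg.PSp 2 F) :=
          { (inferInstance : Group (Cfsg.PSp 2 F)) with mul_comm := hc }
        have hp := IsSimpleGroup.prime_card (α := Cfsg.PSp 2 F)
        rw [S.card_psp] at hp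
        norm_num at hp
      obtain ⟨x, hx, rfl⟩ : p ∈ (T.subgroupOf K₀).map π := h ▸ Subgroup.mem_top p
      obtain ⟨y, hy, rfl⟩ : q ∈ (T.subgroupOf K₀).map π := h ▸ Subgroup.mem_top q
      apply hpq
      have hj : ((y * x)⁻¹ * (x * y) : ↥K₀).1 ∈ J := by
        refine S.self_cent _ (S.le_cent ((y * x)⁻¹ * (x * y) : ↥K₀).2) fun j hj => ?_
        have hα : (x : G) * j * (x : G)⁻¹ * j⁻¹ ∈ zs z a b := hx.2 j hj
        have hβ : (y : G) * j * (y : G)⁻¹ * j⁻¹ ∈ zs z a b := hy.2 j hj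
        set α := (x : G) * j * (x : G)⁻¹ * j⁻¹ with hαd
        set β := (y : G) * j * (y : G)⁻¹ * j⁻¹ with hβd
        have e1 : (x : G) * (y : G) * j = β * α * j * ((x : G) * y) := by
          have : (x : G) * β * (x : G)⁻¹ = β := by
            rw [← (zs_comm S hβ x.2).eq, mul_inv_cancel_right]
          conv_rhs => rw [← this]
          rw [hαd, hβd]; group
        have e2 : (y : G) * (x : G) * j = α * β * j * ((y : G) * x) := by
          have : (y : G) * α * (y : G)⁻¹ = α := by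
            rw [← (zs_comm S hα y.2).eq, mul_inv_cancel_right]
          conv_rhs => rw [← this]
          rw [hαd, hβd]; group
        rw [(zs_comm S hβ (S.J_le (zs_le S hα))).eq] at e1
        show (((y : G) * x)⁻¹ * ((x : G) * y)) * j = j * (((y : G) * x)⁻¹ * ((x : G) * y))
        have e3 : α * β * j = (y : G) * x * j * ((y : G) * x)⁻¹ := eq_mul_inv_of_mul_eq e2.symm
        rw [mul_assoc, e1, e3]
        group
      have h1 := (S.π_ker _).2 hj
      rw [map_mul, map_inv, inv_mul_eq_one, map_mul, map_mul] at h1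
      exact h1.symm
  obtain ⟨i, j, hj, rfl⟩ := S.inner g hgC fun h hh => by
    refine hT0 _ ?_ ?_
    · rw [show g * h * g⁻¹ * h⁻¹ = g * (h * g⁻¹ * h⁻¹) by group]
      exact mul_mem ⟨hgC, hg⟩ (hconj (inv_mem (show g ∈ T from ⟨hgC, hg⟩)) (S.le_cent hh))
    · refine mul_mem (S.mem_K₀ _ (mul_mem (mul_mem hgC (S.le_cent hh)) (inv_mem hgC)) ?_ ?_)
        (inv_mem hh)
      all_goals
        refine (zs_comm S (p := g⁻¹ * _ * g) ?_ hh).map (MulAut.conj g).toMonoidHom |> fun e => by
          simpa [mul_assoc] using e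
      · simpa using zs_conj S (mem_of_inW S (Or.inr (Or.inl rfl))) (inv_mem hgC)
      · simpa using zs_conj S (mem_of_inW S (Or.inr (Or.inr (Or.inl rfl)))) (inv_mem hgC)
  have hci : c ^ i ∈ T := by
    simpa using mul_mem (show c ^ i * j ∈ T from ⟨hgC, hg⟩) (inv_mem (hJT hj))
  by_cases h3 : c ^ i = 1
  · rw [h3, one_mul]; exact hj
  exfalso
  have hcT : c ∈ T := by
    rw [pow_eq_pow_mod i S.c_pow] at hci h3
    have hlt : i % 3 < 3 := Nat.mod_lt _ (by norm_num)
    interval_cases hi : i % 3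
    · exact absurd (pow_zero c) h3
    · rwa [pow_one] at hci
    · have : c ^ 2 = c⁻¹ := eq_inv_of_mul_eq_one_left (by rw [← pow_succ]; exact S.c_pow)
      rw [this] at hci
      simpa using inv_mem hci
  obtain ⟨p, hp, q, hq, hne⟩ := exists_noncomm S
  refine hne (zs_comm S (mem_of_inZ S (S.c_fix p hp (inZ_of_mem S (hcT.2 p hp)))) (S.J_le hq))

/-- The elements of `C(z) ∩ C(a)` fix `b` or send it to `ab`. -/
theorem conj_b {g : G} (hg : g ∈ centralizer ({z} : Set G) ⊓ centralizer ({a} : Set G)) :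
    g * b * g⁻¹ = b ∨ g * b * g⁻¹ = a * b := by
  rcases S.conj_W g hg.1 b (Or.inr (Or.inr (Or.inl rfl))) with h | h | h | h
  · exact absurd (conj_eq_one_iff.1 h) S.b_ne.1
  · refine absurd ?_ S.b_ne.2.2.1
    calc b = g⁻¹ * (g * b * g⁻¹) * g := by group
      _ = a := by rw [h, mul_assoc, ← (commute_of_mem hg.2).eq, inv_mul_cancel_left]
  · exact Or.inl h
  · exact Or.inr h

theorem conj_b_out {g : G} (hg : g ∈ centralizer ({z} : Set G) ⊓ centralizer ({a} : Set G))
    (hn : g ∉ K₀) : g * b * g⁻¹ = a * b :=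
  (conj_b S hg).resolve_left fun h =>
    hn (S.mem_K₀ g hg.1 (commute_of_mem hg.2).symm (Commute.symm (mul_inv_eq_iff_eq_mul.1 h)))

theorem out_mul' {g h : G} (hg : g ∈ centralizer ({z} : Set G) ⊓ centralizer ({a} : Set G))
    (hh : h ∈ centralizer ({z} : Set G) ⊓ centralizer ({a} : Set G)) (hgn : g ∉ K₀)
    (hhn : h ∉ K₀) : g * h ∈ K₀ := by
  refine S.mem_K₀ _ (mul_mem hg.1 hh.1) (commute_of_mem (mul_mem hg.2 hh.2)).symm (Commute.symm ?_)
  refine mul_inv_eq_iff_eq_mul.1 ?_
  rw [show g * h * b * (g * h)⁻¹ = g * (h * b * h⁻¹) * g⁻¹ by group, conj_b_out S hh hhn,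
    show g * (a * b) * g⁻¹ = (g * a * g⁻¹) * (g * b * g⁻¹) by group, conj_b_out S hg hgn,
    (commute_of_mem hg.2).eq, mul_inv_cancel_right, ← mul_assoc, S.a_sq, one_mul]

theorem card_CA :
    Nat.card ↥(centralizer ({z} : Set G) ⊓ centralizer ({a} : Set G) : Subgroup G) =
      2 * Nat.card K₀ := by
  set D := centralizer ({z} : Set G) ⊓ centralizer ({a} : Set G) with hD
  obtain ⟨o, ho, hoa, hob⟩ := S.outer
  have hoD : o ∈ D := ⟨ho, mem_of_commute (mul_inv_eq_iff_eq_mul.1 hoa)⟩
  have hon : o ∉ K₀ := fun h => by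
    rw [← (S.b_K₀ o h).eq, mul_inv_cancel_right] at hob
    exact S.a_ne.1 (right_eq_mul.1 hob)
  have hle : K₀ ≤ D := fun g hg => ⟨S.le_cent hg, mem_of_commute (S.a_K₀ g hg).symm⟩
  have hidx : (K₀.subgroupOf D).index = 2 := by
    rw [Subgroup.index_eq_two_iff]
    refine ⟨⟨o, hoD⟩, fun x => ?_⟩
    by_cases hx : (x : G) ∈ K₀
    · refine Or.inr ⟨hx, fun h => hon ?_⟩
      simpa using mul_mem (inv_mem hx) (show (x : G) * o ∈ K₀ from h)
    · exact Or.inl ⟨out_mul' S x.2 hoD hx hon, hx⟩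
  have := (K₀.subgroupOf D).card_mul_index
  rw [hidx, Nat.card_congr (Subgroup.subgroupOfEquivOfLe hle).toEquiv] at this
  omega

theorem conj_K₀ {g h : G} (hg : g ∈ centralizer ({z} : Set G)) (hh : h ∈ K₀) :
    g * h * g⁻¹ ∈ K₀ := by
  have hcm : ∀ w, InW a b w → Commute w (g * h * g⁻¹) := fun w hw => by
    have h0 : g⁻¹ * w * g⁻¹⁻¹ ∈ zs z a b := zs_conj S (mem_of_inW S hw) (inv_mem hg)
    have h1 := (zs_comm S h0 hh).map (MulAut.conj g).toMonoidHom
    simpa [mul_assoc] using h1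
  exact S.mem_K₀ _ (mul_mem (mul_mem hg (S.le_cent hh)) (inv_mem hg))
    (hcm a (Or.inr (Or.inl rfl))) (hcm b (Or.inr (Or.inr (Or.inl rfl))))

/-- A 2-subgroup normal in `C(z) ∩ C(a)` lies in the core. -/
theorem le_J {P : Subgroup G} (hP : P ≤ centralizer ({z} : Set G) ⊓ centralizer ({a} : Set G))
    (hn : ∀ g ∈ centralizer ({z} : Set G) ⊓ centralizer ({a} : Set G), ∀ p ∈ P, g * p * g⁻¹ ∈ P)
    (h2 : IsPGroup 2 P) : P ≤ J := by
  haveI := S.simple_psp
  haveI : Fact (Nat.Prime 2) := ⟨Nat.prime_two⟩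
  have hK : ∀ {g : G}, g ∈ K₀ → g ∈ centralizer ({z} : Set G) ⊓ centralizer ({a} : Set G) :=
    fun {g} hg => ⟨S.le_cent hg, mem_of_commute (S.a_K₀ g hg).symm⟩
  set K : Subgroup ↥K₀ := P.subgroupOf K₀
  have hKn : K.Normal := ⟨fun k hk x => hn x (hK x.2) k hk⟩
  have hin : ∀ p, p ∈ P → p ∈ K₀ → p ∈ J := by
    rcases (IsSimpleGroup.eq_bot_or_eq_top_of_normal (K.map π) (hKn.map π S.π_surj)) with h | h
    · intro p hp hp0
      have : π ⟨p, hp0⟩ ∈ K.map π := Subgroup.mem_map_of_mem π hp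
      rw [h, Subgroup.mem_bot] at this
      exact (S.π_ker ⟨p, hp0⟩).1 this
    · exfalso
      have hK2 : IsPGroup 2 K := h2.comap_of_injective K₀.subtype Subtype.val_injective
      obtain ⟨n, hn'⟩ := IsPGroup.iff_card.1 (hK2.map π)
      rw [h, Subgroup.card_top, S.card_psp] at hn'
      have h3 : 3 ∣ 2 ^ n := hn' ▸ by norm_num
      have := Nat.Prime.dvd_of_dvd_pow Nat.prime_three h3
      omega
  intro p hp
  obtain ⟨i, j, hj, rfl⟩ := S.inner p (hP hp).1 fun h hh => by
    refine hin _ ?_ (mul_mem (conj_K₀ S (hP hp).1 hh) (inv_mem hh))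
    rw [show p * h * p⁻¹ * h⁻¹ = p * (h * p⁻¹ * h⁻¹) by group]
    exact mul_mem hp (hn h (hK hh) _ (inv_mem hp))
  have h1 : Commute (c ^ i) a := by
    have := (commute_of_mem (hP hp).2).mul_left (S.a_K₀ j (S.J_le hj)).symm.inv_left
    rwa [mul_inv_cancel_right] at this
  rw [c_pow_eq S h1, one_mul]
  exact hj

theorem conj_z {g : G} (hg : ∀ j ∈ J, g * j * g⁻¹ ∈ J) : g * z * g⁻¹ = z := by
  obtain ⟨p, hp, q, hq, hne⟩ := exists_noncomm S
  have e : p * q = q * p * z := (S.comm_mem p hp q hq).resolve_left hne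
  have e' : (g * p * g⁻¹) * (g * q * g⁻¹) =
      (g * q * g⁻¹) * (g * p * g⁻¹) * (g * z * g⁻¹) := by
    rw [show (g * p * g⁻¹) * (g * q * g⁻¹) = g * (p * q) * g⁻¹ by group, e]; group
  rcases S.comm_mem _ (hg p hp) _ (hg q hq) with h | h <;> rw [h] at e'
  · exact absurd (conj_eq_one_iff.1 (left_eq_mul.1 e')) S.ne_one
  · exact (mul_left_cancel e').symm

section quotient

variable {e : G} (he : e = a ∨ e = a * z) {X : Subgroup G} (hz : z ∈ X) (hb : b ∈ X)
  (hCX : centralizer ({z} : Set G) ⊓ centralizer ({a} : Set G) ≤ X)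
  (hXe : X ≤ centralizer ({e} : Set G)) {Q : Type u} [Group Q] [Finite Q] {f : ↥X →* Q}
  (hs : Function.Surjective f) (hk : ∀ g, f g = 1 ↔ ((g : G) = 1 ∨ (g : G) = e))

include he

theorem e_mem : e ∈ J := by
  rcases he with rfl | rfl
  exacts [S.a_mem, mul_mem S.a_mem S.z_mem]

theorem e_ne : e ≠ 1 ∧ e ≠ z := by
  rcases he with rfl | rfl
  · exact S.a_ne
  · refine ⟨fun h => S.a_ne.2 ?_, fun h => S.a_ne.1 (mul_eq_right.1 h)⟩
    rw [eq_inv_of_mul_eq_one_left h, inv_eq_of_mul_eq_one_right S.sq]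

include hXe

theorem inf_X {g : G} (hg : g ∈ centralizer ({z} : Set G)) (hgX : g ∈ X) :
    g ∈ centralizer ({z} : Set G) ⊓ centralizer ({a} : Set G) := by
  refine ⟨hg, mem_of_commute ?_⟩
  have h1 := commute_of_mem (hXe hgX)
  rcases he with rfl | rfl
  · exact h1
  · have := h1.mul_right (commute_of_mem hg)
    rwa [mul_assoc, S.sq, mul_one] at this

include hk

theorem mem_imX {P : Subgroup G} (heP : e ∈ P) (x : ↥X) : f x ∈ imX f P ↔ (x : G) ∈ P := by
  refine ⟨?_, fun h => ⟨x, h, rfl⟩⟩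
  rintro ⟨y, hy, hyx⟩
  have h1 : f (y⁻¹ * x) = 1 := by rw [map_mul, map_inv, hyx, inv_mul_cancel]
  have hmem : ((y⁻¹ * x : ↥X) : G) ∈ P := by
    rcases (hk _).1 h1 with h | h <;> rw [h]
    exacts [P.one_mem, heP]
  simpa using P.mul_mem hy hmem

include hz hCX

/-- The image of `z` is centralised only by the image of the centraliser. -/
theorem comm_z (x : ↥X) (h : Commute (f x) (f ⟨z, hz⟩)) :
    (x : G) ∈ centralizer ({z} : Set G) := by
  have h1 : f (x * ⟨z, hz⟩ * x⁻¹ * (⟨z, hz⟩ : ↥X)⁻¹) = 1 := by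
    simp only [map_mul, map_inv, h.eq]; group
  rcases (hk _).1 h1 with h' | h' <;>
    replace h' : (x : G) * z * (x : G)⁻¹ * z⁻¹ = _ := h'
  · rw [mul_inv_eq_iff_eq_mul, one_mul] at h'
    exact mem_of_commute (mul_inv_eq_iff_eq_mul.1 h')
  exfalso
  rw [mul_inv_eq_iff_eq_mul] at h'
  have hxe : ∀ y ∈ X, Commute y e := fun y hy => commute_of_mem (hXe hy)
  -- `x` normalises `C(z) ∩ C(a)`
  have hD : ∀ {g : G}, g ∈ centralizer ({z} : Set G) ⊓ centralizer ({a} : Set G) →
      (x : G) * g * (x : G)⁻¹ ∈ centralizer ({z} : Set G) ⊓ centralizer ({a} : Set G) ∧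
      (x : G)⁻¹ * g * x ∈ centralizer ({z} : Set G) ⊓ centralizer ({a} : Set G) := by
    intro g hg
    have hgX := hCX hg
    constructor
    · refine inf_X S he hXe (mem_of_commute ?_) (mul_mem (mul_mem x.2 hgX) (inv_mem x.2))
      have h2 := (commute_of_mem hg.1).map (MulAut.conj (x : G)).toMonoidHom
      have hxgx : Commute ((x : G) * g * (x : G)⁻¹) (e * z) := by
        rw [← h']; simpa using h2
      have h3 := (hxe _ (mul_mem (mul_mem x.2 hgX) (inv_mem x.2))).inv_right.mul_right hxgx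
      rwa [inv_mul_cancel_left] at h3
    · refine inf_X S he hXe (mem_of_commute ?_) (mul_mem (mul_mem (inv_mem x.2) hgX) x.2)
      have h2 : Commute g (e * z) := (hxe g hgX).mul_right (commute_of_mem hg.1)
      rw [← h'] at h2
      simpa [mul_assoc] using h2.map (MulAut.conj (x : G)⁻¹).toMonoidHom
  have hle : J.map (MulAut.conj (x : G)).toMonoidHom ≤ J := by
    refine le_J S ?_ ?_ ((IsPGroup.of_card S.card_J).map _)
    · rintro _ ⟨j, hj, rfl⟩
      exact (hD (J_zero S hj)).1
    · rintro g hg _ ⟨j, hj, rfl⟩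
      refine ⟨((x : G)⁻¹ * g * x) * j * ((x : G)⁻¹ * g * x)⁻¹, S.conj_mem _ (hD hg).2.1 j hj, ?_⟩
      simp [mul_assoc]
  have := conj_z S (g := (x : G)) fun j hj => hle ⟨j, hj, rfl⟩
  exact (e_ne S he).1 (mul_eq_right.1 (h'.symm.trans this))

include hs

theorem cent_eq :
    centralizer ({f ⟨z, hz⟩} : Set Q) = imX f (centralizer ({z} : Set G)) := by
  ext y
  obtain ⟨x, rfl⟩ := hs y
  rw [Subgroup.mem_centralizer_singleton_iff, mem_imX S he hXe hk (J_cent S (e_mem S he))]
  refine ⟨comm_z S he hz hCX hXe hk x, fun h => ?_⟩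
  exact ((show Commute x ⟨z, hz⟩ from Subtype.ext (commute_of_mem h).eq).map f).eq

theorem card_imX {P : Subgroup G} (heP : e ∈ P) (hP : P ≤ X) :
    Nat.card P = 2 * Nat.card (imX f P) := by
  let q : ↥P →* ↥(imX f P) :=
    (f.comp (Subgroup.inclusion hP)).codRestrict (imX f P) fun p => ⟨_, p.2, rfl⟩
  have hq : Function.Surjective q := by
    rintro ⟨_, x, hx, rfl⟩
    exact ⟨⟨x, hx⟩, rfl⟩
  have hker : Nat.card q.ker = 2 := by
    rw [Nat.card_eq_two_iff]
    refine ⟨1, ⟨⟨e, heP⟩, Subtype.ext ((hk ⟨e, hP heP⟩).2 (Or.inr rfl))⟩, fun h => ?_, ?_⟩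
    · exact (e_ne S he).1 (congrArg (fun t : ↥q.ker => ((t : ↥P) : G)) h).symm
    · refine Set.eq_univ_of_forall fun x => ?_
      have : f (Subgroup.inclusion hP x.1) = 1 := congrArg Subtype.val x.2
      rcases (hk _).1 this with h | h
      · exact Or.inl (Subtype.ext (Subtype.ext h))
      · exact Or.inr (Subtype.ext (Subtype.ext h))
  rw [Subgroup.card_eq_card_quotient_mul_card_subgroup q.ker,
    Nat.card_congr (QuotientGroup.quotientKerEquivOfSurjective q hq).toEquiv, hker, mul_comm]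

include hb

open Classical in
theorem f_ab :
    f ⟨a * b, hCX (J_zero S (mul_mem S.a_mem S.b_mem))⟩ = f ⟨b, hb⟩ * if e = a then 1 else f ⟨z, hz⟩ := by
  have haX : a ∈ X := hCX (J_zero S S.a_mem)
  rcases he with rfl | rfl
  · rw [if_pos rfl, mul_one, show (⟨e * b, _⟩ : ↥X) = ⟨e, haX⟩ * ⟨b, hb⟩ from rfl, map_mul,
      (hk ⟨e, haX⟩).2 (Or.inr rfl), one_mul]
  · rw [if_neg fun h => S.ne_one (mul_eq_left.1 h),
      show (⟨a * b, _⟩ : ↥X) = ⟨a, haX⟩ * ⟨b, hb⟩ from rfl, map_mul]
    have h1 : f (⟨a, haX⟩ * ⟨z, hz⟩) = 1 := (hk _).2 (Or.inr rfl)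
    rw [map_mul] at h1
    have h2 : f ⟨z, hz⟩ * f ⟨z, hz⟩ = 1 := by
      rw [← map_mul, show (⟨z, hz⟩ : ↥X) * ⟨z, hz⟩ = 1 from Subtype.ext S.sq, map_one]
    have h3 : f ⟨a, haX⟩ = f ⟨z, hz⟩ := by
      rw [eq_inv_of_mul_eq_one_left h1, inv_eq_of_mul_eq_one_right h2]
    rw [h3, ← map_mul, ← map_mul]
    exact congrArg f (Subtype.ext (z_K₀ S (S.J_le S.b_mem)).eq)

/-- The quotient data. -/
theorem setup3_quot : ∃ π' : ↥(imX f K₀) →* Cfsg.PSp 2 F,
    Setup3 (f ⟨z, hz⟩) (f ⟨b, hb⟩) (imX f J) (imX f K₀) π' := by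
  classical
  have hcent := cent_eq S he hz hCX hXe hs hk
  have hKX : K₀ ≤ X := fun g hg => hCX ⟨S.le_cent hg, mem_of_commute (S.a_K₀ g hg).symm⟩
  have hJX : J ≤ X := S.J_le.trans hKX
  have heJ := e_mem S he
  let q : ↥K₀ →* ↥(imX f K₀) :=
    (f.comp (Subgroup.inclusion hKX)).codRestrict (imX f K₀) fun p => ⟨_, p.2, rfl⟩
  have hq : Function.Surjective q := by
    rintro ⟨_, x, hx, rfl⟩
    exact ⟨⟨x, hx⟩, rfl⟩
  have hle : q.ker ≤ π.ker := fun h hh => by
    have : f (Subgroup.inclusion hKX h) = 1 := congrArg Subtype.val hh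
    refine (S.π_ker h).2 ?_
    rcases (hk _).1 this with e' | e' <;> rw [Subgroup.coe_inclusion] at e' <;> rw [e']
    exacts [J.one_mem, heJ]
  have hπq : ∀ h, q.liftOfSurjective hq ⟨π, hle⟩ (q h) = π h :=
    fun h => MonoidHom.liftOfRightInverse_comp_apply q _ _ ⟨π, hle⟩ h
  -- a preimage in `C(z) ∩ C(a)`
  have hpre : ∀ y ∈ centralizer ({f ⟨z, hz⟩} : Set Q), ∃ x : ↥X,
      f x = y ∧ (x : G) ∈ centralizer ({z} : Set G) ⊓ centralizer ({a} : Set G) := by
    intro y hy
    rw [hcent] at hy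
    obtain ⟨x, hx, rfl⟩ := hy
    exact ⟨x, rfl, inf_X S he hXe hx x.2⟩
  have hne : ∀ {p : G} (hp : p ∈ X), f ⟨p, hp⟩ = 1 → p = 1 ∨ p = e := fun hp h => (hk _).1 h
  refine ⟨q.liftOfSurjective hq ⟨π, hle⟩, ?_⟩
  exact
    { card_F := S.card_F
      sq := by rw [← map_mul, show (⟨z, hz⟩ : ↥X) * ⟨z, hz⟩ = 1 from Subtype.ext S.sq, map_one]
      ne_one := fun h => by
        rcases hne hz h with h' | h'
        exacts [S.ne_one h', (e_ne S he).2 h'.symm]
      a_sq := by rw [← map_mul, show (⟨b, hb⟩ : ↥X) * ⟨b, hb⟩ = 1 from Subtype.ext S.b_sq, map_one]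
      a_out := by
        refine ⟨fun h => ?_, fun h => ?_⟩
        · rcases hne hb h with h' | h'
          · exact S.b_ne.1 h'
          · rcases he with rfl | rfl
            exacts [S.b_ne.2.2.1 h', S.b_ne.2.2.2 h']
        · have h1 : f (⟨b, hb⟩ * ⟨z, hz⟩) = 1 := by
            rw [map_mul, h, ← map_mul, show (⟨z, hz⟩ : ↥X) * ⟨z, hz⟩ = 1 from Subtype.ext S.sq,
              map_one]
          rcases (hk _).1 h1 with h' | h' <;> replace h' : b * z = _ := h'
          · exact S.b_ne.2.1 (by rw [eq_inv_of_mul_eq_one_left h', inv_eq_of_mul_eq_one_right S.sq])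
          · rcases he with rfl | rfl
            · exact S.b_ne.2.2.2 (by rw [← h', mul_assoc, S.sq, mul_one])
            · exact S.b_ne.2.2.1 (mul_right_cancel h')
      le_cent := by
        rw [hcent]
        exact Subgroup.map_mono fun _ hx => S.le_cent hx
      J_le := Subgroup.map_mono fun _ hx => S.J_le hx
      z_mem := ⟨⟨z, hz⟩, S.z_mem, rfl⟩
      a_mem := ⟨⟨b, hb⟩, S.b_mem, rfl⟩
      a_H₀ := by
        rintro _ ⟨x, hx, rfl⟩
        exact (show Commute (⟨b, hb⟩ : ↥X) x from Subtype.ext (S.b_K₀ _ hx).eq).map f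
      card_J := by
        have := card_imX S he hz hCX hXe hs hk heJ hJX
        rw [S.card_J] at this
        omega
      conj_mem := by
        intro y hy _ hp
        obtain ⟨x, rfl, hx⟩ := hpre y hy
        obtain ⟨j, hj, rfl⟩ := hp
        exact ⟨x * j * x⁻¹, S.conj_mem _ hx.1 _ hj, by simp⟩
      conj_H₀ := by
        intro y hy _ hp
        obtain ⟨x, rfl, hx⟩ := hpre y hy
        obtain ⟨h, hh, rfl⟩ := hp
        exact ⟨x * h * x⁻¹, conj_K₀ S hx.1 hh, by simp⟩
      conj_a := by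
        intro y hy
        obtain ⟨x, rfl, hx⟩ := hpre y hy
        rw [← map_inv, ← map_mul, ← map_mul]
        rcases conj_b S hx with h | h
        · exact Or.inl (congrArg f (Subtype.ext h))
        · have h1 := f_ab S he hz hb hCX hXe hs hk
          rw [show x * ⟨b, hb⟩ * x⁻¹ = (⟨a * b, hCX (J_zero S (mul_mem S.a_mem S.b_mem))⟩ : ↥X)
            from Subtype.ext h, h1]
          split_ifs
          exacts [Or.inl (mul_one _), Or.inr rfl]
      out_mul := by
        intro y hy y' hy' hn hn'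
        obtain ⟨x, rfl, hx⟩ := hpre y hy
        obtain ⟨x', rfl, hx'⟩ := hpre y' hy'
        rw [mem_imX S he hXe hk (S.J_le heJ)] at hn hn'
        rw [← map_mul, mem_imX S he hXe hk (S.J_le heJ)]
        exact out_mul' S hx hx' hn hn'
      sq_mem := by
        rintro _ ⟨j, hj, rfl⟩
        rw [← map_mul]
        rcases S.sq_mem _ hj with h | h
        · left; rw [show j * j = 1 from Subtype.ext h, map_one]
        · right; rw [show j * j = ⟨z, hz⟩ from Subtype.ext h]
      comm_mem := by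
        rintro _ ⟨i, hi, rfl⟩ _ ⟨j, hj, rfl⟩
        simp only [← map_mul]
        rcases S.comm_mem _ hi _ hj with h | h
        · left; rw [show i * j = j * i from Subtype.ext h]
        · right; rw [show i * j = j * i * ⟨z, hz⟩ from Subtype.ext h]
      center := by
        rintro _ ⟨i, hi, rfl⟩ hc
        have hall : ∀ j ∈ J, Commute (i : G) j := fun j hj => by
          rcases S.comm_mem _ hi j hj with h | h
          · exact h
          exfalso
          let jj : ↥X := ⟨j, hJX hj⟩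
          have h1 := (hc (f jj) ⟨jj, hj, rfl⟩).eq
          have h2 : f i * f jj = f jj * f i * f ⟨z, hz⟩ := by
            rw [← map_mul, ← map_mul, ← map_mul, show i * jj = jj * i * ⟨z, hz⟩ from Subtype.ext h]
          rw [h1] at h2
          rcases hne hz (left_eq_mul.1 h2) with h' | h'
          exacts [S.ne_one h', (e_ne S he).2 h'.symm]
        have haX : a ∈ X := hJX S.a_mem
        have hw : ∀ w : ↥X, InW a b (w : G) → f w = 1 ∨ f w = f ⟨z, hz⟩ ∨ f w = f ⟨b, hb⟩ ∨
            f w = f ⟨b, hb⟩ * f ⟨z, hz⟩ := by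
          intro w hw
          rcases hw with h | h | h | h
          · exact Or.inl ((hk _).2 (Or.inl h))
          · rcases he with he' | he'
            · exact Or.inl ((hk _).2 (Or.inr (h.trans he'.symm)))
            · refine Or.inr (Or.inl ?_)
              have h1 : f (w * ⟨z, hz⟩) = 1 :=
                (hk _).2 (Or.inr (show (w : G) * z = e by rw [h, he']))
              have h2 : f ⟨z, hz⟩ * f ⟨z, hz⟩ = 1 := by
                rw [← map_mul, show (⟨z, hz⟩ : ↥X) * ⟨z, hz⟩ = 1 from Subtype.ext S.sq, map_one]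
              rw [map_mul] at h1
              rw [eq_inv_of_mul_eq_one_left h1, inv_eq_of_mul_eq_one_right h2]
          · exact Or.inr (Or.inr (Or.inl (congrArg f (Subtype.ext h))))
          · rw [show w = (⟨a * b, hCX (J_zero S (mul_mem S.a_mem S.b_mem))⟩ : ↥X) from Subtype.ext h,
              f_ab S he hz hb hCX hXe hs hk]
            split_ifs
            exacts [Or.inr (Or.inr (Or.inl (mul_one _))), Or.inr (Or.inr (Or.inr rfl))]
        rcases S.center _ hi hall with h | h
        · exact hw i h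
        · have h2 : f ⟨z, hz⟩ * f ⟨z, hz⟩ = 1 := by
            rw [← map_mul, show (⟨z, hz⟩ : ↥X) * ⟨z, hz⟩ = 1 from Subtype.ext S.sq, map_one]
          have hi' : f i = f (i * ⟨z, hz⟩) * f ⟨z, hz⟩ := by
            rw [map_mul, mul_assoc, h2, mul_one]
          rcases hw (i * (⟨z, hz⟩ : ↥X)) h with e' | e' | e' | e' <;> rw [hi', e']
          · exact Or.inr (Or.inl (one_mul _))
          · exact Or.inl h2
          · exact Or.inr (Or.inr (Or.inr rfl))
          · exact Or.inr (Or.inr (Or.inl (by rw [mul_assoc, h2, mul_one])))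
      self_cent := by
        intro y hy hc
        obtain ⟨x, rfl, hx⟩ := hpre y hy
        refine (mem_imX S he hXe hk heJ x).2 (triv_le S hx.1 fun j hj => ?_)
        let jj : ↥X := ⟨j, hJX hj⟩
        have h1 : f (x * jj * x⁻¹ * jj⁻¹) = 1 := by
          simp only [map_mul, map_inv, (hc (f jj) ⟨jj, hj, rfl⟩).eq]; group
        rcases (hk _).1 h1 with h | h <;> replace h : (x : G) * j * (x : G)⁻¹ * j⁻¹ = _ := h <;>
          rw [h]
        · exact one_mem _
        · rcases he with rfl | rfl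
          · exact Subgroup.subset_closure (by simp)
          · exact mul_mem (Subgroup.subset_closure (by simp)) (Subgroup.subset_closure (by simp))
      inner := by
        intro y hy hc
        obtain ⟨x, rfl, hx⟩ := hpre y hy
        refine (mem_imX S he hXe hk (S.J_le heJ) x).2 ?_
        obtain ⟨i, j, hj, e1⟩ := S.inner (x : G) hx.1 fun h hh => by
          have := hc (f ⟨h, hKX hh⟩) ⟨_, hh, rfl⟩
          rw [← map_inv, ← map_inv, ← map_mul, ← map_mul, ← map_mul,
            mem_imX S he hXe hk heJ] at this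
          exact this
        have h1 : Commute (c ^ i) a := by
          have h2 := commute_of_mem hx.2
          rw [e1] at h2
          have := h2.mul_left (S.a_K₀ j (S.J_le hj)).symm.inv_left
          rwa [mul_inv_cancel_right] at this
        rw [e1, c_pow_eq S h1, one_mul]
        exact S.J_le hj
      π_surj := fun p => by
        obtain ⟨h, rfl⟩ := S.π_surj p
        exact ⟨q h, hπq h⟩
      π_ker := fun y => by
        obtain ⟨h, rfl⟩ := hq y
        rw [hπq]
        exact (S.π_ker h).trans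
          (mem_imX S he hXe hk heJ (Subgroup.inclusion hKX h)).symm
      core := by
        haveI : Fact (Nat.Prime 2) := ⟨Nat.prime_two⟩
        set C' := centralizer ({f ⟨z, hz⟩} : Set Q) with hC'
        have hJC : imX f J ≤ C' := by
          rw [hcent]
          exact Subgroup.map_mono fun _ hx => J_cent S hx
        refine le_antisymm ?_ ?_
        · intro p hp
          haveI : ((imX f J).subgroupOf C').Normal := ⟨fun n hn g => by
            obtain ⟨x, hx, hxC⟩ := hpre g g.2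
            obtain ⟨j, hj, hjn⟩ := hn
            refine ⟨x * j * x⁻¹, S.conj_mem _ hxC.1 _ hj, ?_⟩
            rw [map_mul, map_mul, map_inv, hx, hjn]
            rfl⟩
          have h2 : IsPGroup 2 ↥((imX f J).subgroupOf C') :=
            (((IsPGroup.of_card S.card_J).comap_of_injective X.subtype
              Subtype.val_injective).map f).comap_of_injective C'.subtype Subtype.val_injective
          exact ⟨⟨p, hJC hp⟩, H1.le_pCore h2 hp, rfl⟩
        · rintro _ ⟨p, hp, rfl⟩
          set P := ((Cfsg.pCore 2 ↥C').map C'.subtype).comap f with hPd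
          have hPle : P.map X.subtype ≤ J := by
            refine le_J S ?_ ?_ ?_
            · rintro _ ⟨x, ⟨y, -, hy⟩, rfl⟩
              exact inf_X S he hXe (comm_z S he hz hCX hXe hk x
                (Subgroup.mem_centralizer_singleton_iff.1 (hy ▸ y.2))) x.2
            · rintro g hg _ ⟨x, ⟨y, hy, hyx⟩, rfl⟩
              refine ⟨⟨g, hCX hg⟩ * x * ⟨g, hCX hg⟩⁻¹, ?_, rfl⟩
              have hgC : f ⟨g, hCX hg⟩ ∈ C' := by
                rw [hcent]
                exact ⟨_, hg.1, rfl⟩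
              haveI := H1.pCore_normal' 2 ↥C'
              refine ⟨⟨_, hgC⟩ * y * ⟨_, hgC⟩⁻¹,
                Subgroup.Normal.conj_mem inferInstance y hy _, ?_⟩
              simp [← hyx]
            · refine IsPGroup.map ?_ _
              refine ((H1.isPGroup_pCore 2 ↥C').map _).comap_of_ker_isPGroup f ?_
              intro g
              refine ⟨1, Subtype.ext (Subtype.ext ?_)⟩
              rcases (hk _).1 (MonoidHom.mem_ker.1 g.2) with h | h
              · simp [h]
              · rcases he with rfl | rfl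
                · simp [h, pow_two, S.a_sq]
                · simp only [pow_one, pow_two, Subgroup.coe_mul, Subgroup.coe_one, h]
                  rw [(za S).mul_mul_mul_comm, S.a_sq, S.sq, one_mul]
          obtain ⟨x, hx⟩ := hs (C'.subtype p)
          exact hx ▸ (mem_imX S he hXe hk heJ x).2
            (hPle ⟨x, ⟨p, hp, hx.symm⟩, rfl⟩)
      card_cent := by
        have hD : centralizer ({f ⟨z, hz⟩} : Set Q) =
            imX f (centralizer ({z} : Set G) ⊓ centralizer ({a} : Set G)) := by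
          refine le_antisymm (fun y hy => ?_) ?_
          · obtain ⟨x, rfl, hx⟩ := hpre y hy
            exact ⟨x, hx, rfl⟩
          · rw [hcent]
            exact Subgroup.map_mono fun _ hx => hx.1
        have := card_imX S he hz hCX hXe hs hk (P := centralizer ({z} : Set G) ⊓
          centralizer ({a} : Set G)) (J_zero S heJ) hCX
        rw [card_CA S, S.card_K₀] at this
        rw [hD]
        omega
      card_H₀ := by
        have := card_imX S he hz hCX hXe hs hk (S.J_le heJ) hKX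
        rw [S.card_K₀] at this
        omega
      card_psp := S.card_psp
      simple_psp := S.simple_psp }

end quotient

omit S

/-- The quotient data, with swap exactly for `e = az`. -/
theorem quot : QuotStmt.{u, v} := by
  intro G _ _ F _ _ z a b c J K₀ π S e he X hz hb hCX hXe Q _ _ f hs hk
  refine ⟨setup3_quot S he hz hb hCX hXe hs hk, cent_eq S he hz hCX hXe hs hk, ?_, ?_⟩
  · intro hea y hy
    rw [cent_eq S he hz hCX hXe hs hk] at hy
    obtain ⟨x, hx, rfl⟩ := hy
    refine mul_inv_eq_iff_eq_mul.1 ?_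
    rw [← map_inv, ← map_mul, ← map_mul]
    rcases conj_b S (inf_X S he hXe hx x.2) with h | h
    · exact congrArg f (Subtype.ext h)
    · rw [show x * ⟨b, hb⟩ * x⁻¹ = (⟨a * b, hCX (J_zero S (mul_mem S.a_mem S.b_mem))⟩ : ↥X)
        from Subtype.ext h, f_ab S he hz hb hCX hXe hs hk, if_pos hea, mul_one]
  · intro hea
    obtain ⟨o, ho, hoa, hob⟩ := S.outer
    have hoD : o ∈ centralizer ({z} : Set G) ⊓ centralizer ({a} : Set G) :=
      ⟨ho, mem_of_commute (mul_inv_eq_iff_eq_mul.1 hoa)⟩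
    refine ⟨f ⟨o, hCX hoD⟩, ?_, ?_⟩
    · rw [cent_eq S he hz hCX hXe hs hk]
      exact ⟨_, ho, rfl⟩
    · rw [← map_inv, ← map_mul, ← map_mul,
        show (⟨o, hCX hoD⟩ : ↥X) * ⟨b, hb⟩ * ⟨o, hCX hoD⟩⁻¹ =
          ⟨a * b, hCX (J_zero S (mul_mem S.a_mem S.b_mem))⟩ from Subtype.ext hob,
        f_ab S he hz hb hCX hXe hs hk, if_neg fun h => S.ne_one ?_]
      rw [hea] at h
      exact mul_eq_left.1 h

end H38.Fi23C
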